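import Groth.Agent.QCoh.Stalk
import Groth.Agent.RefX.Ext

/-!
# Sections of flat quasi-coherent modules extend whenever functions do
-/

universe u

set_option backward.isDefEq.respectTransparency false
set_option backward.isDefEq.respectTransparency.types false
set_option linter.style.haveILetI false

open CategoryTheory AlgebraicGeometry TopologicalSpace Opposite
open scoped TensorProduct

namespace Groth.Agent.Deform.FlatHartogs

variable {X : Scheme.{u}} {M : X.Modules} {U : X.Opens}

theorem res_struct {V W : X.Opens} (h : W ≤ V) (r : Γ(X, V)) :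
    AModX.res (Coh.structureModule X) h r = AModX.resR h r := rfl

/-- The affine case. -/
theorem affine_bijective (hM : Coh.IsQCoh M) {V : X.Opens} (hV : IsAffineOpen V) [Module.Flat Γ(X, V) Γ(M, V)]
    (hc : IsCompact ((V ⊓ U : X.Opens) : Set X))
    (hR : Function.Bijective (X.presheaf.map (homOfLE (inf_le_left : V ⊓ U ≤ V)).op)) :
    Function.Bijective (AModX.res M (inf_le_left : V ⊓ U ≤ V)) := by
  classical
  let A := Γ(X, V)
  let N := Γ(M, V)
  obtain ⟨b, hb, hfin, hcov⟩ := hc.elim_finite_subcover_image (b := {f : A | X.basicOpen f ≤ V ⊓ U})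
    (c := fun f => (X.basicOpen f : Set X)) (fun f _ => (X.basicOpen f).isOpen) fun x hx => by
      obtain ⟨f, hf, hxf⟩ := hV.exists_basicOpen_le ⟨x, hx⟩ hx.1
      exact Set.mem_iUnion₂.2 ⟨f, hf, hxf⟩
  haveI := hfin.fintype
  let I := ↥b
  let D : I → X.Opens := fun i => X.basicOpen (i.1 : A)
  have hD : ∀ i, D i ≤ V ⊓ U := fun i => hb i.2
  have hDV : ∀ i, D i ≤ V := fun i => (hD i).trans inf_le_left
  have hcov' : ∀ p ∈ V ⊓ U, ∃ i, p ∈ D i := fun p hp => by
    obtain ⟨f, hf, hpf⟩ := Set.mem_iUnion₂.1 (hcov hp)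
    exact ⟨⟨f, hf⟩, hpf⟩
  have hunit : ∀ (i : I) (W : X.Opens) (h : W ≤ D i) (k : ℕ),
      IsUnit (AModX.resR (h.trans (hDV i)) ((i.1 : A) ^ k)) := fun i W h k => by
    rw [map_pow]; exact (AModX.isUnit_resR _ _ h).pow k
  -- injectivity, for any k
  have hinjR : ∀ (k : ℕ) (r : A), (∀ i : I, (i.1 : A) ^ k * r = 0) → r = 0 := fun k r hr => by
    have h0 : AModX.res (Coh.structureModule X) (inf_le_left : V ⊓ U ≤ V) r = 0 := by
      refine AModX.eq_of_locally _ _ fun p hp => ?_
      obtain ⟨i, hpi⟩ := hcov' p hp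
      refine ⟨D i, hD i, hpi, ?_⟩
      rw [map_zero, AModX.res_res]
      have := congrArg (AModX.resR (hDV i)) (hr i)
      rw [map_mul, map_zero] at this
      exact (hunit i _ le_rfl k).mul_right_eq_zero.1 this
    exact hR.1 (h0.trans (map_zero (X.presheaf.map (homOfLE (inf_le_left : V ⊓ U ≤ V)).op).hom).symm)
  let φ : ℕ → (A →ₗ[A] (I → A)) := fun k => LinearMap.pi fun i => LinearMap.mulLeft A ((i.1 : A) ^ k)
  let ψ : ℕ → ((I → A) →ₗ[A] (I × I → A)) := fun k => LinearMap.pi fun p =>
    ((p.1.1 : A) ^ k) • LinearMap.proj p.2 - ((p.2.1 : A) ^ k) • LinearMap.proj p.1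
  have hφ : ∀ k, Function.Injective (φ k) := fun k r r' h => sub_eq_zero.1 (hinjR k _ fun i => by
    have := congrFun h i
    simp only [φ, LinearMap.pi_apply, LinearMap.mulLeft_apply] at this
    rw [mul_sub, this, sub_self])
  have hex : ∀ k, Function.Exact (φ k) (ψ k) := fun k a => by
    constructor
    · intro ha
      have hij : ∀ i j : I, (i.1 : A) ^ k * a j = (j.1 : A) ^ k * a i := fun i j => by
        have := congrFun ha (i, j)
        simpa [ψ, sub_eq_zero] using this
      let u : ∀ i, Γ(X, D i)ˣ := fun i => (hunit i _ le_rfl k).unit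
      let s : ∀ i, Γ(Coh.structureModule X, D i) := fun i =>
        ((u i)⁻¹ : Γ(X, D i)ˣ).val * AModX.resR (hDV i) (a i)
      have hs : ∀ (i : I) (W : X.Opens) (h : W ≤ D i),
          AModX.resR (h.trans (hDV i)) ((i.1 : A) ^ k) * AModX.resR h (s i) = AModX.resR (h.trans (hDV i)) (a i) := by
        intro i W h
        rw [← AModX.resR_resR (hDV i) h ((i.1 : A) ^ k), ← map_mul]
        show AModX.resR h (AModX.resR (hDV i) ((i.1 : A) ^ k) * ((((u i)⁻¹ : Γ(X, D i)ˣ) : Γ(X, D i)) * AModX.resR (hDV i) (a i))) = _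
        rw [← _root_.mul_assoc, IsUnit.mul_val_inv, _root_.one_mul, AModX.resR_resR]
      obtain ⟨r₀, hr₀, -⟩ := AModX.existsUnique_glue (M := Coh.structureModule X) (V := V ⊓ U) D hD hcov' s fun i j => by
        refine (hunit i (D i ⊓ D j) inf_le_left k).mul_left_cancel ?_
        refine (hunit j (D i ⊓ D j) inf_le_right k).mul_left_cancel ?_
        have h1 := hs i (D i ⊓ D j) inf_le_left
        have h2 := hs j (D i ⊓ D j) inf_le_right
        have h3 := congrArg (AModX.resR ((inf_le_left : D i ⊓ D j ≤ D i).trans (hDV i))) (hij i j)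
        rw [map_mul, map_mul] at h3
        rw [res_struct, res_struct, h1, mul_left_comm, h2]
        exact h3.symm
      obtain ⟨r, hr⟩ := hR.2 r₀
      refine ⟨r, funext fun i => ?_⟩
      show (i.1 : A) ^ k * r = a i
      refine sub_eq_zero.1 (hR.1 ((AModX.eq_of_locally (M := Coh.structureModule X)
        (AModX.res (Coh.structureModule X) (inf_le_left : V ⊓ U ≤ V) ((i.1 : A) ^ k * r - a i)) 0 fun p hp => ?_).trans
          (map_zero (X.presheaf.map (homOfLE (inf_le_left : V ⊓ U ≤ V)).op).hom).symm))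
      obtain ⟨j, hpj⟩ := hcov' p hp
      refine ⟨D j, hD j, hpj, ?_⟩
      rw [map_zero, AModX.res_res, res_struct, map_sub, map_mul, sub_eq_zero]
      refine (hunit j _ le_rfl k).mul_left_cancel ?_
      have h2 := hs j (D j) le_rfl
      rw [AModX.resR_self] at h2
      have h4 : AModX.resR (hDV j) r = s j := by
        rw [← hr₀ j, ← hr]
        exact (AModX.resR_resR (inf_le_left : V ⊓ U ≤ V) (hD j) r).symm
      have h3 := congrArg (AModX.resR (hDV j)) (hij i j)
      rw [map_mul, map_mul] at h3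
      rw [h4, mul_left_comm, h2, h3]
    · rintro ⟨r, rfl⟩
      funext p
      simp only [φ, ψ, LinearMap.pi_apply, LinearMap.sub_apply, LinearMap.smul_apply, LinearMap.proj_apply,
        LinearMap.mulLeft_apply, smul_eq_mul, Pi.zero_apply]
      ring
  let e₁ := TensorProduct.piScalarRight A A N I
  let e₂ := TensorProduct.piScalarRight A A N (I × I)
  let r₁ := TensorProduct.rid A N
  have hφN : ∀ k z (i : I), e₁ ((φ k).lTensor N z) i = (i.1 : A) ^ k • r₁ z := fun k z i => by
    induction z with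
    | zero => simp
    | add x y hx hy => simp [hx, hy]
    | tmul n c => simp [e₁, r₁, φ, TensorProduct.piScalarRight_apply, TensorProduct.piScalarRightHom_tmul, mul_smul]
  have hψN : ∀ k z (p : I × I), e₂ ((ψ k).lTensor N z) p =
      (p.1.1 : A) ^ k • e₁ z p.2 - (p.2.1 : A) ^ k • e₁ z p.1 := fun k z p => by
    induction z with
    | zero => simp
    | add x y hx hy => simp [hx, hy, smul_add]; abel
    | tmul n c => simp [e₁, e₂, ψ, TensorProduct.piScalarRight_apply, TensorProduct.piScalarRightHom_tmul, mul_smul, sub_smul]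
  refine ⟨?_, fun s => ?_⟩
  · refine (injective_iff_map_eq_zero _).2 fun n hn => ?_
    have h0 : ∀ i : I, ∃ k, (i.1 : A) ^ k • n = 0 := fun i => QCoh.exists_pow_smul_eq_zero hM hV _ n (by
      have := congrArg (AModX.res M (hD i)) hn
      rw [map_zero, AModX.res_res] at this
      exact this)
    choose k hk using h0
    let K := Finset.univ.sup k
    have hK : ∀ i : I, (i.1 : A) ^ K • n = 0 := fun i => by
      obtain ⟨l, hl⟩ := Nat.exists_eq_add_of_le (Finset.le_sup (Finset.mem_univ i) : k i ≤ K)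
      show (i.1 : A) ^ (Finset.univ.sup k) • n = 0
      rw [hl, pow_add, mul_comm, mul_smul, hk, smul_zero]
    have h1 : (φ K).lTensor N (r₁.symm n) = 0 := e₁.injective (funext fun i => by
      rw [hφN, r₁.apply_symm_apply, hK, map_zero]; rfl)
    have h2 := Module.Flat.lTensor_preserves_injective_linearMap (M := N) _ (hφ K) (h1.trans (map_zero _).symm)
    exact r₁.symm.injective (h2.trans (map_zero _).symm)
  · choose k t ht using fun i : I => QCoh.exists_pow_smul_eq_map hM hV (i.1 : A) (AModX.res M (hD i) s)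
    let K := Finset.univ.sup k
    let n₁ : I → N := fun i => (i.1 : A) ^ (K - k i) • t i
    have hn₁ : ∀ i, AModX.res M (hDV i) (n₁ i) = AModX.resR (hDV i) ((i.1 : A) ^ K) • AModX.res M (hD i) s := fun i => by
      show AModX.res M (hDV i) ((i.1 : A) ^ (K - k i) • t i) = _
      rw [AModX.res_smul, show AModX.res M (hDV i) (t i) = AModX.resR (hDV i) (i.1 : A) ^ k i • AModX.res M (hD i) s from ht i,
        ← mul_smul, ← map_pow, ← map_mul, ← pow_add, Nat.sub_add_cancel (Finset.le_sup (Finset.mem_univ i))]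
    clear_value n₁
    have hz : ∀ p : I × I, ∃ l, ((p.1.1 : A) * p.2.1) ^ l • ((p.1.1 : A) ^ K • n₁ p.2 - (p.2.1 : A) ^ K • n₁ p.1) = 0 := by
      intro p
      refine QCoh.exists_pow_smul_eq_zero hM hV _ _ ?_
      have hle : X.basicOpen ((p.1.1 : A) * p.2.1) ≤ D p.1 ⊓ D p.2 := (X.basicOpen_mul _ _).le
      have e1 := congrArg (AModX.res M (hle.trans inf_le_left)) (hn₁ p.1)
      have e2 := congrArg (AModX.res M (hle.trans inf_le_right)) (hn₁ p.2)
      rw [AModX.res_res, AModX.res_smul, AModX.resR_resR, AModX.res_res] at e1 e2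
      show AModX.res M (X.basicOpen_le _) _ = 0
      rw [map_sub, AModX.res_smul, AModX.res_smul, e1, e2, ← mul_smul, ← mul_smul, sub_eq_zero]
      exact congrArg (· • _) (_root_.mul_comm _ _)
    choose l hl using hz
    let L := Finset.univ.sup l
    let n₂ : I → N := fun i => (i.1 : A) ^ L • n₁ i
    have hn₂ : ∀ p : I × I, (p.1.1 : A) ^ (K + L) • n₂ p.2 - (p.2.1 : A) ^ (K + L) • n₂ p.1 = 0 := fun p => by
      obtain ⟨d, hd⟩ := Nat.exists_eq_add_of_le (Finset.le_sup (Finset.mem_univ p) : l p ≤ L)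
      have h := congrArg (fun z => ((p.1.1 : A) * p.2.1) ^ d • z) (hl p)
      simp only [smul_zero, ← mul_smul, ← pow_add] at h
      rw [add_comm d, ← hd] at h
      refine Eq.trans ?_ h
      show (p.1.1 : A) ^ (K + L) • (p.2.1 : A) ^ L • n₁ p.2 - (p.2.1 : A) ^ (K + L) • (p.1.1 : A) ^ L • n₁ p.1 = _
      rw [smul_sub, ← mul_smul, ← mul_smul, ← mul_smul, ← mul_smul]
      congr 1 <;> congr 1 <;> ring
    obtain ⟨z, hz⟩ := (Module.Flat.lTensor_exact (M := N) (hex (K + L)) (e₁.symm n₂)).1
      (e₂.injective (funext fun p => by rw [hψN, e₁.apply_symm_apply, hn₂, map_zero]; rfl))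
    refine ⟨r₁ z, AModX.eq_of_locally _ _ fun p hp => ?_⟩
    obtain ⟨i, hpi⟩ := hcov' p hp
    refine ⟨D i, hD i, hpi, ?_⟩
    rw [AModX.res_res]
    refine (hunit i _ le_rfl (K + L)).smul_left_cancel.1 ?_
    have h1 : (i.1 : A) ^ (K + L) • r₁ z = n₂ i := by
      rw [← hφN, hz, e₁.apply_symm_apply]
    rw [← AModX.res_smul, h1]
    show AModX.res M (hDV i) ((i.1 : A) ^ L • n₁ i) = _
    rw [AModX.res_smul, hn₁, ← mul_smul, ← map_mul, ← pow_add, add_comm L K]

/-- Sections of a flat quasi-coherent module extend across a closed subset if functions do. -/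
theorem extendsAcross_of_isFlat [IsNoetherian X] (hM : Coh.IsQCoh M) (hfl : FlatMod.IsFlat M)
    (hU : ∀ x : X, x ∉ U → (2 : ℕ∞) ≤ LocCoh.depth (X.presheaf.stalk x) (X.presheaf.stalk x)) :
    RefX.ExtendsAcross U M :=
  RefX.extendsAcross_of_affine M fun V hV =>
    haveI : Module.Flat Γ(X, V) Γ(M, V) := (QCoh.flat_sections_iff hM hV).2 fun x _ => hfl x
    affine_bijective hM hV (TopologicalSpace.NoetherianSpace.isCompact _) (Hartogs.affine_bijective U hU hV)

end Groth.Agent.Deform.FlatHartogs
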